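import Mathlib

/-!
# S5764, unitary `n = 3`: lemmas on finite fields
-/

set_option autoImplicit false

namespace Cfsg.Agent.H10.U3

universe u

variable {K : Type u} [Field K] [Finite K]

/-- an element of order two of a cyclic group moving a point of an orbit of length two -/
theorem cyc_aux {G X : Type*} [Group G] [IsCyclic G] [MulAction G X] {ω ω' : X} (hO : ∀ g : G, g • ω = ω ∨ g • ω = ω')
    (hO' : ∀ g : G, g • ω = ω' → g • ω' = ω) {σ τ : G} (hσ : σ • ω = ω) (hτ : τ • ω ≠ ω)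
    (hττ : τ * τ = 1) {y : X} (hy : σ • σ • y = y) : σ • y = y := by
  obtain ⟨x, hx⟩ := IsCyclic.exists_generator (α := G)
  obtain ⟨s, hs⟩ := Subgroup.mem_zpowers_iff.1 (hx σ)
  obtain ⟨t, ht⟩ := Subgroup.mem_zpowers_iff.1 (hx τ)
  have hx2 : (x ^ 2) ∈ MulAction.stabilizer G ω := by
    rw [MulAction.mem_stabilizer_iff, pow_two, mul_smul]
    rcases hO x with h | h
    · rw [h, h]
    · rw [h, hO' x h]
  have hx1 : x ∉ MulAction.stabilizer G ω := by
    intro h
    apply hτ
    have h1 : τ ∈ MulAction.stabilizer G ω := by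
      rw [← ht]
      exact Subgroup.zpow_mem _ h t
    exact MulAction.mem_stabilizer_iff.1 h1
  have hev : ∀ k : ℤ, x ^ (2 * k) ∈ MulAction.stabilizer G ω := by
    intro k
    rw [zpow_mul]
    exact Subgroup.zpow_mem _ (by exact_mod_cast hx2) k
  have hse : Even s := by
    rw [← Int.not_odd_iff_even]
    rintro ⟨k, hk⟩
    apply hx1
    have h1 : x ^ s ∈ MulAction.stabilizer G ω := by
      rw [hs]
      exact MulAction.mem_stabilizer_iff.2 hσ
    have h2 : x = (x ^ (2 * k))⁻¹ * x ^ s := by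
      rw [hk, zpow_add, zpow_one]
      group
    rw [h2]
    exact mul_mem (inv_mem (hev k)) h1
  have hto : Odd t := by
    rw [← Int.not_even_iff_odd]
    rintro ⟨k, hk⟩
    apply hτ
    have h1 : τ ∈ MulAction.stabilizer G ω := by
      rw [← ht, hk, ← two_mul]
      exact hev k
    exact MulAction.mem_stabilizer_iff.1 h1
  obtain ⟨j, hj⟩ := hse
  obtain ⟨k, hk⟩ := hto
  have h1 : σ ^ t = 1 := by
    have e : σ ^ t = (τ * τ) ^ j := by
      rw [← hs, ← ht, ← zpow_add, ← zpow_mul, ← zpow_mul, hj]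
      congr 1
      ring
    rw [e, hττ, one_zpow]
  have h2 : σ ^ 2 ∈ MulAction.stabilizer G y := by
    rw [MulAction.mem_stabilizer_iff, pow_two, mul_smul]
    exact hy
  have h3 : σ ∈ MulAction.stabilizer G y := by
    have e : σ = (σ ^ 2) ^ (k + 1) := by
      have e1 : (σ ^ 2) ^ (k + 1) = σ ^ (t + 1) := by
        rw [hk, ← zpow_natCast σ 2, ← zpow_mul]
        congr 1
        push_cast
        ring
      rw [e1, zpow_add, h1, one_mul, zpow_one]
    rw [e]
    exact Subgroup.zpow_mem _ h2 _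
  exact MulAction.mem_stabilizer_iff.1 h3

/-- an automorphism fixing `ω` has odd order if an involution moves `ω`, `ω² + ω + 1 = 0` -/
theorem fix_of_sq {σ τ : K ≃+* K} {ω y : K} (hω : ω ^ 2 + ω + 1 = 0) (hσ : σ ω = ω) (hτ : τ ω ≠ ω)
    (hττ : ∀ a, τ (τ a) = a) (hy : σ (σ y) = y) : σ y = y := by
  obtain ⟨p, hp⟩ := CharP.exists K
  have hpp : Fact p.Prime := by
    refine ⟨?_⟩
    exact CharP.char_is_prime K p
  letI := ZMod.algebra K p
  let lift : (K ≃+* K) → Gal(K/ZMod p) := fun ρ =>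
    AlgEquiv.ofRingEquiv (f := ρ) (fun x => by
      exact RingHom.congr_fun (Subsingleton.elim ((ρ : K →+* K).comp (algebraMap (ZMod p) K)) (algebraMap (ZMod p) K)) x)
  have hl : ∀ (ρ : K ≃+* K) (a : K), lift ρ a = ρ a := fun _ _ => rfl
  have hroot : ∀ g : Gal(K/ZMod p), g ω = ω ∨ g ω = ω ^ 2 := by
    intro g
    have h1 : (g ω) ^ 2 + g ω + 1 = 0 := by
      rw [← map_pow, ← map_add, ← map_one g, ← map_add, hω, map_zero]
    have h2 : (g ω - ω) * (g ω - ω ^ 2) = 0 := by
      linear_combination h1 - (g ω) * hω + (ω - 1) * hω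
    rcases mul_eq_zero.1 h2 with h3 | h3
    · exact Or.inl (sub_eq_zero.1 h3)
    · exact Or.inr (sub_eq_zero.1 h3)
  have h3 : ω ^ 4 = ω := by
    linear_combination (ω ^ 2 - ω) * hω
  have := cyc_aux (G := Gal(K/ZMod p)) (X := K) (ω := ω) (ω' := ω ^ 2) (fun g => hroot g) (fun g hg => by
    change g ω = ω ^ 2 at hg
    show g (ω ^ 2) = ω
    rw [map_pow, hg, ← pow_mul, h3]) (σ := lift σ) (τ := lift τ) hσ hτ (by
    ext a
    exact hττ a) (y := y) hy
  exact this

/-- a solution of `α τ(α) = -1` in the field generated by `ω` -/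
theorem exists_alpha {τ : K ≃+* K} {ω : K} (hω : ω ^ 2 + ω + 1 = 0) (h3 : (3 : K) ≠ 0) (hτ : τ ω = ω ^ 2) :
    ∃ α : K, α * τ α = -1 ∧ ∀ σ : K ≃+* K, σ ω = ω → σ α = α := by
  obtain ⟨p, hp⟩ := CharP.exists K
  have hpp : Fact p.Prime := ⟨CharP.char_is_prime K p⟩
  have key : ∀ x y : ℕ, ((x : K) ^ 2 - x * y + (y : K) ^ 2 + 1 = 0) →
      ∃ α : K, α * τ α = -1 ∧ ∀ σ : K ≃+* K, σ ω = ω → σ α = α := by
    intro x y hxy
    refine ⟨x + y * ω, ?_, fun σ hσ => by rw [map_add, map_mul, map_natCast, map_natCast, hσ]⟩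
    rw [map_add, map_mul, map_natCast, map_natCast, hτ]
    linear_combination hxy + (x * y + (ω - 1) * (y : K) ^ 2) * hω
  by_cases h2 : (2 : K) = 0
  · refine key 1 0 ?_
    push_cast
    linear_combination h2
  · have hp2 : p ≠ 2 := by
      rintro rfl
      exact h2 (by exact_mod_cast CharP.cast_eq_zero K 2)
    have hp3 : (3 : ZMod p) ≠ 0 := by
      intro h
      apply h3
      have h4 : ((3 : ℕ) : ZMod p) = 0 := by exact_mod_cast h
      rw [ZMod.natCast_eq_zero_iff] at h4
      exact_mod_cast (CharP.cast_eq_zero_iff K p 3).2 h4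
    have hchar : ringChar (ZMod p) ≠ 2 := by
      rw [ZMod.ringChar_zmod_n]
      exact hp2
    obtain ⟨u, v, huv⟩ := FiniteField.exists_root_sum_quadratic
      (f := Polynomial.X ^ 2 + Polynomial.C (1 : ZMod p)) (g := Polynomial.C (3 : ZMod p) * Polynomial.X ^ 2)
      (by compute_degree!) (by compute_degree!) (FiniteField.odd_card_of_char_ne_two hchar)
    simp only [Polynomial.eval_add, Polynomial.eval_mul, Polynomial.eval_C, Polynomial.eval_pow,
      Polynomial.eval_X] at huv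
    refine key (u + v).val (2 * v).val ?_
    have h5 : ∀ a : ZMod p, ((a.val : ℕ) : K) = ZMod.castHom (dvd_refl p) K a := fun a => by
      rw [ZMod.castHom_apply, ZMod.cast_eq_val]
    rw [h5, h5, ← map_one (ZMod.castHom (dvd_refl p) K), ← map_pow, ← map_pow, ← map_mul, ← map_sub, ← map_add,
      ← map_add, ← map_zero (ZMod.castHom (dvd_refl p) K)]
    congr 1
    linear_combination huv

end Cfsg.Agent.H10.U3
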