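import Cfsg.Agent.H563.FC.Spe
import Cfsg.Agent.H710.FC.COdd
import Cfsg.Agent.H10.U3.Field

/-!
# S5764, unitary `n = 3`: the computation in the eigenbasis of `Z`
-/

set_option autoImplicit false

namespace Cfsg.Agent.H10.U3

open Module Cfsg.Agent.H198.FC

universe u v

variable {K : Type u} [Field K] {V : Type v} [AddCommGroup V] [Module K V]

/-- a similitude from an element of `RB b`, unitary case -/
theorem simil {b : Cl K V} (hU : b.IsU) {x : (R K V)ˣ} (hx : cj K V x ∈ RB b) (hV : ∃ v w, b.B v w ≠ 0) :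
    ∃ μ : K, μ ≠ 0 ∧ b.τ μ = μ ∧ ∀ v w, b.B ((x : R K V) v) ((x : R K V) w) = μ * b.B v w := by
  obtain ⟨v0, w0, h0⟩ := hV
  -- rank one operators
  let X : V → V → R K V := fun x y =>
    { toFun := fun v => b.B v x • y
      map_add' := fun v v' => by rw [b.add_left, add_smul]
      map_smul' := fun a v => by
        show b.B (a • v) x • y = a • b.B v x • y
        rw [b.smul_left, smul_smul] }
  have hX : ∀ x y v, X x y v = b.B v x • y := fun _ _ _ => rfl
  have hadj : ∀ x y, b.Adj (X x y) (X y x) := by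
    intro x y v w
    rw [hX, hX, b.smul_left, b.smul_right, ← hU.2, mul_comm]
  have hinv : ∀ v : V, ((x⁻¹ : (R K V)ˣ) : R K V) ((x : R K V) v) = v := by
    intro v
    rw [← Module.End.mul_apply, Units.inv_mul]
    rfl
  have key : ∀ v w p q, b.B v p * b.B ((x : R K V) q) ((x : R K V) w) =
      b.B q w * b.B ((x : R K V) v) ((x : R K V) p) := by
    intro v w p q
    have h1 := (hx.2 _ _).1 (hadj p q) ((x : R K V) v) ((x : R K V) w)
    rw [cj_apply, cj_apply] at h1
    simp only [Module.End.mul_apply, hinv, hX, map_smul] at h1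
    rw [b.smul_left, b.smul_right, ← hU.2] at h1
    exact h1
  set μ := b.B ((x : R K V) v0) ((x : R K V) w0) / b.B v0 w0 with hμ
  have hmu : ∀ v w, b.B ((x : R K V) v) ((x : R K V) w) = μ * b.B v w := by
    intro v w
    have h1 := key v0 w w0 v
    rw [hμ]
    field_simp
    linear_combination h1
  have hμ0 : μ ≠ 0 := by
    intro h
    apply h0
    have h1 := hmu (((x⁻¹ : (R K V)ˣ) : R K V) v0) (((x⁻¹ : (R K V)ˣ) : R K V) w0)
    have hinv' : ∀ v : V, (x : R K V) (((x⁻¹ : (R K V)ˣ) : R K V) v) = v := by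
      intro v
      rw [← Module.End.mul_apply, Units.mul_inv]
      rfl
    rw [hinv', hinv', h, zero_mul] at h1
    exact h1
  refine ⟨μ, hμ0, ?_, hmu⟩
  have h1 := hmu w0 v0
  have h2 := hmu v0 w0
  rw [hU.2 ((x : R K V) v0), h2, map_mul, hU.2 v0 w0] at h1
  have h3 : b.τ (b.B v0 w0) ≠ 0 := by simpa using h0
  exact mul_right_cancel₀ h3 h1

section co

open Cfsg.Agent.H710.FC

variable {ω : K} {P Z : (R K V)ˣ} {B : Basis (ZMod 3) K V}

/-- the action of `P^i Z^j` on the basis -/
theorem PZ_apply (hZ : ∀ i, (Z : R K V) (B i) = Heis.ch 3 ω i • B i)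
    (hP : ∀ i, (P : R K V) (B i) = B (i + 1)) (i j : ℕ) (m : ZMod 3) :
    ((P : R K V) ^ i * (Z : R K V) ^ j) (B m) = Heis.ch 3 ω m ^ j • B (m + i) := by
  have hPi : ∀ (n : ℕ) (m : ZMod 3), ((P : R K V) ^ n) (B m) = B (m + n) := by
    intro n m
    induction n with
    | zero => rw [pow_zero, Nat.cast_zero, add_zero]; rfl
    | succ n ih => rw [pow_succ', Module.End.mul_apply, ih, hP, Nat.cast_succ, add_assoc]
  have hZj : ∀ (n : ℕ) (m : ZMod 3), ((Z : R K V) ^ n) (B m) = Heis.ch 3 ω m ^ n • B m := by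
    intro n m
    induction n with
    | zero => rw [pow_zero, pow_zero, one_smul]; rfl
    | succ n ih => rw [pow_succ', Module.End.mul_apply, ih, map_smul, hZ, smul_smul, pow_succ]
  rw [Module.End.mul_apply, hZj, map_smul, hPi]

/-- **the support lemma** -/
theorem dicho (h : Heis 3 ω P Z) (hZ : ∀ i, (Z : R K V) (B i) = Heis.ch 3 ω i • B i)
    (hP : ∀ i, (P : R K V) (B i) = B (i + 1)) {u : (R K V)ˣ} {i j : ℕ} {ν : K} (hν : ν ≠ 0)
    (hu : (u : R K V) * Z = (ν • ((P : R K V) ^ i * (Z : R K V) ^ j)) * u) :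
    (∀ m k, B.repr ((u : R K V) (B m)) k ≠ 0) ∨
    (∀ m k l, B.repr ((u : R K V) (B m)) k ≠ 0 → B.repr ((u : R K V) (B m)) l ≠ 0 → k = l) := by
  have hsum : ∀ v : V, v = B.repr v 0 • B 0 + B.repr v 1 • B 1 + B.repr v 2 • B 2 := by
    intro v
    have h1 := (B.sum_repr v).symm
    rw [show (Finset.univ : Finset (ZMod 3)) = {0, 1, 2} from rfl] at h1
    rw [Finset.sum_insert (by decide), Finset.sum_insert (by decide), Finset.sum_singleton, ← add_assoc] at h1
    exact h1
  have hY : ∀ (v : V) (k : ZMod 3), B.repr (((P : R K V) ^ i * (Z : R K V) ^ j) v) k =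
      Heis.ch 3 ω (k - i) ^ j * B.repr v (k - i) := by
    intro v k
    have h1 : ((P : R K V) ^ i * (Z : R K V) ^ j) v = ∑ m, B.repr v m • (Heis.ch 3 ω m ^ j • B (m + i)) := by
      conv_lhs => rw [← B.sum_repr v]
      rw [map_sum]
      refine Finset.sum_congr rfl fun m _ => ?_
      rw [map_smul, PZ_apply hZ hP]
    rw [h1, map_sum, Finsupp.finsetSum_apply, Finset.sum_eq_single (k - i)]
    · rw [map_smul, map_smul, Basis.repr_self, Finsupp.smul_apply, Finsupp.smul_apply, sub_add_cancel,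
        Finsupp.single_eq_same, smul_eq_mul, smul_eq_mul, mul_one, mul_comm]
    · intro m _ hm
      rw [map_smul, map_smul, Basis.repr_self, Finsupp.smul_apply, Finsupp.smul_apply,
        Finsupp.single_eq_of_ne (fun h0 => hm (by rw [h0]; ring)), smul_zero, smul_zero]
    · intro h0
      exact absurd (Finset.mem_univ _) h0
  have hE : ∀ m k, Heis.ch 3 ω m * B.repr ((u : R K V) (B m)) k =
      ν * (Heis.ch 3 ω (k - i) ^ j * B.repr ((u : R K V) (B m)) (k - i)) := by
    intro m k
    have h1 := LinearMap.congr_fun hu (B m)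
    rw [Module.End.mul_apply, hZ, map_smul, Module.End.mul_apply, LinearMap.smul_apply] at h1
    have h2 := congrArg (fun v => B.repr v k) h1
    simp only [map_smul, Finsupp.smul_apply, smul_eq_mul] at h2
    rw [h2, hY]
  have hne : ∀ m, ∃ k, B.repr ((u : R K V) (B m)) k ≠ 0 := by
    intro m
    by_contra hcon
    push Not at hcon
    have h1 : (u : R K V) (B m) = 0 := B.repr.injective (by rw [map_zero]; exact Finsupp.ext hcon)
    have h2 : ((u⁻¹ : (R K V)ˣ) : R K V) ((u : R K V) (B m)) = B m := by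
      rw [← Module.End.mul_apply, Units.inv_mul]
      rfl
    rw [h1, map_zero] at h2
    exact B.ne_zero m h2.symm
  have hiff : ∀ m k, B.repr ((u : R K V) (B m)) k ≠ 0 ↔ B.repr ((u : R K V) (B m)) (k - i) ≠ 0 := by
    intro m k
    have h1 := hE m k
    constructor
    · intro h2 h3
      rw [h3, mul_zero, mul_zero] at h1
      exact mul_ne_zero (h.ch_ne m) h2 h1
    · intro h2 h3
      rw [h3, mul_zero] at h1
      exact mul_ne_zero hν (mul_ne_zero (pow_ne_zero _ (h.ch_ne _)) h2) h1.symm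
  by_cases hi : (i : ZMod 3) = 0
  · right
    intro m k l hk hl
    by_contra hkl
    have h1 : ∀ m k, B.repr ((u : R K V) (B m)) k ≠ 0 → Heis.ch 3 ω m = ν * Heis.ch 3 ω k ^ j := by
      intro m k hk
      have h2 := hE m k
      rw [hi, sub_zero, ← mul_assoc] at h2
      exact mul_right_cancel₀ hk h2
    -- `j = 0` modulo `3`
    have h2 : Heis.ch 3 ω k ^ j = Heis.ch 3 ω l ^ j := mul_left_cancel₀ hν ((h1 m k hk).symm.trans (h1 m l hl))
    have h3 : ω ^ j = 1 := by
      have hω := h.hω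
      have hω0 := h.ω_ne
      have e0 : Heis.ch 3 ω 0 = 1 := h.ch_zero
      have e1 : Heis.ch 3 ω 1 = ω := h.ch_one
      have e2 : Heis.ch 3 ω 2 = ω ^ 2 := h.ch_nat 2
      have hj : (ω ^ j) ^ 3 = 1 := by rw [← pow_mul, mul_comm, pow_mul, hω, one_pow]
      have hj0 : ω ^ j ≠ 0 := pow_ne_zero _ hω0
      have e3 : (ω ^ 2) ^ j = (ω ^ j) ^ 2 := by rw [← pow_mul, ← pow_mul, mul_comm]
      have f1 : (ω ^ j) ^ 2 = 1 → ω ^ j = 1 := by
        intro hh
        have : (ω ^ j) ^ 3 = (ω ^ j) ^ 2 * ω ^ j := by ring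
        rw [hh, one_mul] at this
        rw [← this, hj]
      have f2 : ω ^ j = (ω ^ j) ^ 2 → ω ^ j = 1 := by
        intro hh
        have h5 : ω ^ j * 1 = ω ^ j * ω ^ j := by rw [mul_one, ← pow_two]; exact hh
        exact (mul_left_cancel₀ hj0 h5).symm
      fin_cases k <;> fin_cases l <;>
        first
        | exact absurd rfl hkl
        | (simp only [Fin.zero_eta, Fin.mk_one, Fin.reduceFinMk] at h2
           first
           | (change Heis.ch 3 ω 0 ^ j = Heis.ch 3 ω 1 ^ j at h2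
              rw [e0, e1, one_pow] at h2; exact h2.symm)
           | (change Heis.ch 3 ω 1 ^ j = Heis.ch 3 ω 0 ^ j at h2
              rw [e0, e1, one_pow] at h2; exact h2)
           | (change Heis.ch 3 ω 0 ^ j = Heis.ch 3 ω 2 ^ j at h2
              rw [e0, e2, one_pow, e3] at h2; exact f1 h2.symm)
           | (change Heis.ch 3 ω 2 ^ j = Heis.ch 3 ω 0 ^ j at h2
              rw [e0, e2, one_pow, e3] at h2; exact f1 h2)
           | (change Heis.ch 3 ω 1 ^ j = Heis.ch 3 ω 2 ^ j at h2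
              rw [e1, e2, e3] at h2; exact f2 h2)
           | (change Heis.ch 3 ω 2 ^ j = Heis.ch 3 ω 1 ^ j at h2
              rw [e1, e2, e3] at h2; exact f2 h2.symm))
    have h4 : ∀ k, Heis.ch 3 ω k ^ j = 1 := by
      intro k
      show (ω ^ k.val) ^ j = 1
      rw [← pow_mul, mul_comm, pow_mul, h3, one_pow]
    have h5 : ∀ m, Heis.ch 3 ω m = ν := by
      intro m
      obtain ⟨k, hk⟩ := hne m
      rw [h1 m k hk, h4, mul_one]
    exact h.zero_ne (h.ch_inj ((h5 0).trans (h5 1).symm))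
  · left
    intro m k
    obtain ⟨l, hl⟩ := hne m
    -- all differences are multiples of `i`
    have h1 : B.repr ((u : R K V) (B m)) (l - i) ≠ 0 := (hiff m l).1 hl
    have h2 : B.repr ((u : R K V) (B m)) (l - i - i) ≠ 0 := (hiff m _).1 h1
    have h3 : ∀ (l i k : ZMod 3), i ≠ 0 → k = l ∨ k = l - i ∨ k = l - i - i := by decide
    rcases h3 l i k hi with rfl | rfl | rfl
    · exact hl
    · exact h1
    · exact h2

end co

end Cfsg.Agent.H10.U3
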