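import Cfsg.Agent.H10.U3.Core

/-!
# S5764, unitary `n = 3`: the set-up
-/

set_option autoImplicit false

namespace Cfsg.Agent.H10.U3

open Module Cfsg.Agent.H198.FC Cfsg.Agent.H710.FC

universe u v

variable {K : Type u} [Field K] {V : Type v} [AddCommGroup V] [Module K V]

/-- the set-up -/
structure Dat (b : Cl K V) (ω d α : K) (P Z : (R K V)ˣ) (B : Basis (ZMod 3) K V) : Prop where
  H : Heis 3 ω P Z
  hZ : ∀ i, (Z : R K V) (B i) = Heis.ch 3 ω i • B i
  hP : ∀ i, (P : R K V) (B i) = B (i + 1)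
  ω2 : ω ^ 2 + ω + 1 = 0
  h3 : (3 : K) ≠ 0
  τω : b.τ ω = ω ^ 2
  orth : ∀ i j, i ≠ j → b.B (B i) (B j) = 0
  nrm : ∀ i, b.B (B i) (B i) = d
  d0 : d ≠ 0
  dτ : b.τ d = d
  α1 : α * b.τ α = -1
  αf : ∀ σ : K ≃+* K, σ ω = ω → σ α = α

theorem sum3 (B : Basis (ZMod 3) K V) (v : V) : v = B.repr v 0 • B 0 + B.repr v 1 • B 1 + B.repr v 2 • B 2 := by
  have h1 := (B.sum_repr v).symm
  rw [show (Finset.univ : Finset (ZMod 3)) = {0, 1, 2} from rfl] at h1
  rw [Finset.sum_insert (by decide), Finset.sum_insert (by decide), Finset.sum_singleton, ← add_assoc] at h1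
  exact h1

theorem exists_dat [Finite K] [Module.Finite K V] {b : Cl K V} (hU : b.IsU) {S A : Subgroup (Equiv.Perm (R K V))}
    {r a : ℕ} (hn : finrank K V = 3) (hS : S ≤ RB b) (hA : C6Data S A r a) :
    ∃ (ω d α : K) (P Z : (R K V)ˣ) (B : Basis (ZMod 3) K V), cj K V P ∈ A ∧ cj K V Z ∈ A ∧ Dat b ω d α P Z B := by
  have hnt : Nontrivial V := Cfsg.Agent.H563.FC.nontrivial_of hA
  have hSP : S ≤ RA K V := fun f hf => RP_le_RA (hS hf).1
  obtain ⟨ω, P, Z, hPA, hZA, hH⟩ := exists_heis hSP hA (by rw [hn]; exact Nat.prime_three) (by rw [hn]; norm_num)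
  have hr3 : r = 3 := hH.rank.symm.trans hn
  subst hr3
  obtain ⟨B, hBZ, hBP⟩ := hH.exists_basis
  have hω3 : ω ^ 3 = 1 := hH.hω
  have hω1 : ω ≠ 1 := hH.prim.ne_one (by norm_num)
  have hω0 : ω ≠ 0 := hH.ω_ne
  have hω2 : ω ^ 2 + ω + 1 = 0 := by
    have h1 : (ω - 1) * (ω ^ 2 + ω + 1) = 0 := by linear_combination hω3
    exact (mul_eq_zero.1 h1).resolve_left (sub_ne_zero.2 hω1)
  have h3 : (3 : K) ≠ 0 := by
    intro h
    have h1 : (ω - 1) * (ω - 1) = 0 := by linear_combination hω2 - ω * h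
    exact hω1 (sub_eq_zero.1 (mul_self_eq_zero.1 h1))
  obtain ⟨w0, hw0⟩ := exists_ne (0 : V)
  obtain ⟨v0, hv0⟩ := Cfsg.Agent.H706.FC.exists_left (b := b) hw0
  obtain ⟨μ, hμ0, hμτ, hμ⟩ := simil hU (hS (hA.2.2.2.1 hZA)) ⟨_, _, hv0⟩
  obtain ⟨κ, hκ0, hκτ, hκ⟩ := simil hU (hS (hA.2.2.2.1 hPA)) ⟨_, _, hv0⟩
  have hωτ : ω * b.τ ω = 1 := by
    have h1 : b.B ((Z : R K V) ((P : R K V) w0)) ((Z : R K V) ((P : R K V) v0)) =
        b.B (ω • (P : R K V) ((Z : R K V) w0)) (ω • (P : R K V) ((Z : R K V) v0)) := by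
      rw [hH.ZP, hH.ZP]
    rw [hμ, hκ, b.smul_left, b.smul_right, hκ, hμ] at h1
    have h2 : μ * κ * b.B w0 v0 ≠ 0 := mul_ne_zero (mul_ne_zero hμ0 hκ0) hv0
    have h4 : (ω * b.τ ω - 1) * (μ * κ * b.B w0 v0) = 0 := by linear_combination -h1
    exact sub_eq_zero.1 ((mul_eq_zero.1 h4).resolve_right h2)
  have hτω : b.τ ω = ω ^ 2 := by
    apply mul_left_cancel₀ hω0
    rw [hωτ]
    linear_combination -hω3
  have hne2 : ω ^ 2 ≠ ω := by
    intro h
    apply hω1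
    have h1 : ω * (ω - 1) = 0 := by linear_combination h
    exact sub_eq_zero.1 ((mul_eq_zero.1 h1).resolve_left hω0)
  have hcube : ∀ m : K, m ^ 3 = 1 → b.τ m = m → m = 1 := by
    intro m h1 h2
    by_contra hm
    have h4 : (m - 1) * (m ^ 2 + m + 1) = 0 := by linear_combination h1
    have h5 := (mul_eq_zero.1 h4).resolve_left (sub_ne_zero.2 hm)
    have h6 : (m - ω) * (m - ω ^ 2) = 0 := by
      linear_combination h5 - m * hω2 + (ω - 1) * hω2
    rcases mul_eq_zero.1 h6 with h7 | h7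
    · rw [sub_eq_zero.1 h7, hτω] at h2
      exact hne2 h2
    · rw [sub_eq_zero.1 h7, map_pow, hτω] at h2
      apply hne2
      rw [← h2]
      linear_combination ω * hω3
  have hpow3 : ∀ {X : (R K V)ˣ} {m : K}, (X : R K V) ^ 3 = 1 → (∀ v w, b.B ((X : R K V) v) ((X : R K V) w) = m * b.B v w) →
      m ^ 3 = 1 := by
    intro X m h1 h2
    have h4 : ∀ v, (X : R K V) ((X : R K V) ((X : R K V) v)) = v := by
      intro v
      have := LinearMap.congr_fun h1 v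
      rw [pow_succ, pow_succ, pow_one, Module.End.mul_apply, Module.End.mul_apply] at this
      exact this
    have h5 := h2 ((X : R K V) ((X : R K V) w0)) ((X : R K V) ((X : R K V) v0))
    rw [h4, h4, h2, h2] at h5
    have h6 : (m ^ 3 - 1) * b.B w0 v0 = 0 := by linear_combination -h5
    exact sub_eq_zero.1 ((mul_eq_zero.1 h6).resolve_right hv0)
  have hμ1 : μ = 1 := hcube μ (hpow3 hH.Zr' hμ) hμτ
  have hκ1 : κ = 1 := hcube κ (hpow3 hH.Pr' hκ) hκτ
  subst hμ1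
  subst hκ1
  have hch : ∀ i, b.τ (Heis.ch 3 ω i) * Heis.ch 3 ω i = 1 := by
    intro i
    show b.τ (ω ^ i.val) * ω ^ i.val = 1
    rw [map_pow, ← mul_pow, mul_comm, hωτ, one_pow]
  have horth : ∀ i j, i ≠ j → b.B (B i) (B j) = 0 := by
    intro i j hij
    have h1 := hμ (B i) (B j)
    rw [hBZ, hBZ, b.smul_left, b.smul_right, one_mul] at h1
    by_contra hne
    have h4 : (Heis.ch 3 ω i * b.τ (Heis.ch 3 ω j) - 1) * b.B (B i) (B j) = 0 := by linear_combination h1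
    have h5 := sub_eq_zero.1 ((mul_eq_zero.1 h4).resolve_right hne)
    have h6 := hch j
    have h7 : b.τ (Heis.ch 3 ω j) ≠ 0 := by
      intro h0
      rw [h0, zero_mul] at h6
      exact zero_ne_one h6
    apply hij
    apply hH.ch_inj
    apply mul_right_cancel₀ h7
    rw [h5, mul_comm]
    exact h6.symm
  have hnrm : ∀ i, b.B (B i) (B i) = b.B (B 0) (B 0) := by
    have hs : ∀ i, b.B (B (i + 1)) (B (i + 1)) = b.B (B i) (B i) := by
      intro i
      rw [← hBP, hκ, one_mul]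
    intro i
    have h0 : i = 0 ∨ i = 0 + 1 ∨ i = 0 + 1 + 1 := by revert i; decide
    rcases h0 with h | h | h
    · rw [h]
    · rw [h, hs]
    · rw [h, hs, hs]
  have hd0 : b.B (B 0) (B 0) ≠ 0 := by
    intro h0
    apply B.ne_zero 0
    apply b.nondeg
    intro w
    rw [sum3 B w, b.add_right, b.add_right, b.smul_right, b.smul_right, b.smul_right, h0,
      horth 0 1 (by decide), horth 0 2 (by decide)]
    ring
  obtain ⟨α, hα, hαf⟩ := exists_alpha hω2 h3 hτω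
  exact ⟨ω, b.B (B 0) (B 0), α, P, Z, B, hPA, hZA, hH, hBZ, hBP, hω2, h3, hτω, horth, hnrm, hd0, (hU.2 _ _).symm, hα, hαf⟩

end Cfsg.Agent.H10.U3
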