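import Cfsg.Agent.H10.U3.Main

/-!
# S5764, unitary `n = 3` (helper10): `stmtBC6_three : StmtBC6On true (fun n => n = 3)`
-/

set_option autoImplicit false

namespace Cfsg.Agent.H10.U3

open Module Cfsg.Agent.H198.FC Cfsg.Agent.H710.FC Cfsg.Agent.H563.FC Cfsg.Agent.H786.FC

universe u v

/-- **unitary groups in dimension 3**, extraspecial type normalizers -/
theorem stmtBC6_three : StmtBC6On.{u, v} true (fun n => n = 3) := by
  intro K _ _ V _ _ _ b hk hBig hn S hS hsol A r a hA
  have hn' : finrank K V = 3 := hn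
  have hU : b.IsU := hk.1 rfl
  have hnt : Nontrivial V := nontrivial_of hA
  obtain ⟨ω, d, α, P, Z, B, hPA, hZA, D⟩ := exists_dat hU hn' hS hA
  obtain ⟨ε, hε⟩ := hU.1
  have hτω : b.τ ω ≠ ω := by
    rw [D.τω]
    intro h
    have h1 : ω * (ω - 1) = 0 := by linear_combination h
    exact D.H.prim.ne_one (by norm_num) (sub_eq_zero.1 ((mul_eq_zero.1 h1).resolve_left D.H.ω_ne))
  -- the fixed field has at least 4 elements
  have hK4 : 4 ≤ Nat.card (K0 b.τ) := by
    have hKq : Nat.card K = Nat.card (K0 b.τ) ^ 2 := card_K b.invol hε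
    have h2 : 2 ≤ Nat.card (K0 b.τ) := Finite.one_lt_card
    have hne2 : Nat.card (K0 b.τ) ≠ 2 := by
      intro h
      rw [h] at hKq
      rcases hBig with h' | h'
      · exact h'.2.2 hn' hKq
      · exact not_isSp_of_isU hU h'.1
    have hne3 : Nat.card (K0 b.τ) ≠ 3 := by
      intro h
      apply D.h3
      have := Fintype.ofFinite (K0 b.τ)
      have h4 : ((Fintype.card (K0 b.τ) : ℕ) : K0 b.τ) = 0 := Nat.cast_card_eq_zero _
      rw [← Nat.card_eq_fintype_card, h] at h4
      have h5 := congrArg Subtype.val h4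
      push_cast at h5
      exact h5
    omega
  have hcomm := hA.2.2.2.2.2.2.2.1
  have hnorm := hA.2.2.2.2.2.2.2.2.2.1
  refine five_of_good' hS hA hsol (w := wv α B) wv_ne D.ww (fun y hy hl => ?_) (fun f hf hfc hs _ k => ?_) d⁻¹
    (Or.inr hK4) (fun c hN hc f hf hfc hfx => ?_)
  · obtain ⟨l, hl⟩ := hl
    exact D.eig hcomm hPA hZA hy hl
  · exfalso
    exact hτω (sig_ω D (hS hf).1 hs (hfc _ hZA) (hfc _ hPA))
  · have hfP := (hS hf).1
    -- the scalar `c`
    have hadj := hN.adj (B 0) (B 0)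
    have hwB : b.B (wv α B) (B 0) = d := by
      rw [hU.2, D.B0w, D.dτ]
    rw [LinearMap.neg_apply, Cfsg.Agent.H706.FC.B_neg_right, tw_apply, D.B0w, b.smul_left, b.smul_right, hwB, D.B0w,
      map_mul, D.dτ] at hadj
    have hτc : b.τ c = -c := by
      have h1 : (b.τ c + c) * (d * d) = 0 := by linear_combination hadj
      exact eq_neg_of_add_eq_zero_left ((mul_eq_zero.1 h1).resolve_right (mul_ne_zero D.d0 D.d0))
    have hc0 : c ≠ 0 := by
      rintro rfl
      apply hN.ne_zero
      ext v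
      rw [tw_apply, zero_mul, zero_smul]
      rfl
    have hc1 : c * d ≠ 1 := by
      intro h
      exact hc (eq_inv_of_mul_eq_one_left h)
    have hc2 : c * d ≠ -1 := by
      intro h
      have h1 := congrArg b.τ h
      rw [map_mul, hτc, D.dτ, map_neg, map_one] at h1
      have h2 : (2 : K) = 0 := by linear_combination h + h1
      exact hc1 (by linear_combination h - h2)
    -- the normalizing element
    have huS := Cfsg.Agent.H706.FC.cj_mem_of hfP hf hfx
    set t := Cfsg.Agent.H706.FC.uN (tw b c (wv α B)) hN.sq with ht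
    set u : (R K V)ˣ := t * (Cfsg.Agent.H706.FC.fu hfP t)⁻¹ with hu
    have huv : (u : R K V) = (1 + tw b c (wv α B)) * (1 - f (tw b c (wv α B))) := by
      have h1 : (((Cfsg.Agent.H706.FC.fu hfP t)⁻¹ : (R K V)ˣ) : R K V) = f ((t⁻¹ : (R K V)ˣ) : R K V) := rfl
      have h2 : ((t⁻¹ : (R K V)ˣ) : R K V) = 1 - tw b c (wv α B) := rfl
      rw [hu, Units.val_mul, h1, h2, Cfsg.Agent.H706.FC.RP_map_sub hfP, Cfsg.Agent.H706.FC.RP_map_one hfP]
      rfl
    have huZ : cj K V (u * Z * u⁻¹) ∈ A := by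
      rw [map_mul, map_mul, map_inv]
      exact hnorm _ huS _ hZA
    obtain ⟨i, j, ν, hν, hy⟩ := D.lift' hcomm hPA hZA huZ
    have huZ' : (u : R K V) * Z = (ν • ((P : R K V) ^ i * (Z : R K V) ^ j)) * u := by
      rw [← hy, ← Units.val_mul, ← Units.val_mul, inv_mul_cancel_right]
    exact D.main hfP (hfc _ hZA) (hfc _ hPA) hc0 hc1 hc2 huv hν huZ'

end Cfsg.Agent.H10.U3
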