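import Cfsg.Agent.H10.U3.Dat

/-!
# S5764, unitary `n = 3` (helper10): `StmtBC6On true (fun n => n = 3)`
-/

set_option autoImplicit false

namespace Cfsg.Agent.H10.U3

open Module Cfsg.Agent.H198.FC Cfsg.Agent.H710.FC Cfsg.Agent.H563.FC

universe u v

variable {K : Type u} [Field K] {V : Type v} [AddCommGroup V] [Module K V]

/-- the isotropic vector -/
noncomputable def wv (α : K) (B : Basis (ZMod 3) K V) : V := B 0 + α • B 1

variable {b : Cl K V} {ω d α : K} {P Z : (R K V)ˣ} {B : Basis (ZMod 3) K V}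

theorem wv_ne : wv α B ≠ 0 := by
  intro h
  have h1 := congrArg (fun v => B.repr v 0) h
  simp only [wv, map_add, map_smul, Basis.repr_self, Finsupp.add_apply, Finsupp.smul_apply, map_zero,
    Finsupp.single_eq_same, Finsupp.zero_apply] at h1
  rw [Finsupp.single_eq_of_ne (by decide : (0 : ZMod 3) ≠ 1), smul_zero, add_zero] at h1
  exact one_ne_zero h1

theorem Dat.B0w (D : Dat b ω d α P Z B) : b.B (B 0) (wv α B) = d := by
  rw [wv, b.add_right, b.smul_right, D.nrm, D.orth 0 1 (by decide), mul_zero, add_zero]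

theorem Dat.B1w (D : Dat b ω d α P Z B) : b.B (B 1) (wv α B) = b.τ α * d := by
  rw [wv, b.add_right, b.smul_right, D.nrm, D.orth 1 0 (by decide), zero_add]

theorem Dat.B2w (D : Dat b ω d α P Z B) : b.B (B 2) (wv α B) = 0 := by
  rw [wv, b.add_right, b.smul_right, D.orth 2 0 (by decide), D.orth 2 1 (by decide), mul_zero, add_zero]

theorem Dat.ww (D : Dat b ω d α P Z B) : b.B (wv α B) (wv α B) = 0 := by
  have h1 : b.B (wv α B) (wv α B) = b.B (B 0) (wv α B) + α * b.B (B 1) (wv α B) := by
    conv_lhs => rw [wv, b.add_left, b.smul_left]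
    rfl
  rw [h1, D.B0w, D.B1w, ← mul_assoc, D.α1]
  ring

theorem Dat.α0 (D : Dat b ω d α P Z B) : α ≠ 0 := by
  intro h
  have := D.α1
  rw [h, zero_mul] at this
  exact neg_ne_zero.2 one_ne_zero this.symm

theorem Dat.tα0 (D : Dat b ω d α P Z B) : b.τ α ≠ 0 := by
  intro h
  have := D.α1
  rw [h, mul_zero] at this
  exact neg_ne_zero.2 one_ne_zero this.symm

theorem Dat.lift' [Module.Finite K V] [Nontrivial V] (D : Dat b ω d α P Z B) {A : Subgroup (Equiv.Perm (R K V))}
    (hcomm : ∀ f ∈ A, ∀ g ∈ A, f * g = g * f) (hP : cj K V P ∈ A) (hZ : cj K V Z ∈ A) {y : (R K V)ˣ}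
    (hy : cj K V y ∈ A) : ∃ (i j : ℕ) (ν : K), ν ≠ 0 ∧ (y : R K V) = ν • ((P : R K V) ^ i * (Z : R K V) ^ j) := by
  obtain ⟨c₁, h1⟩ := exists_comm (hcomm _ hy _ hZ)
  obtain ⟨c₂, h2⟩ := exists_comm (hcomm _ hy _ hP)
  obtain ⟨i, j, hij⟩ := D.H.lift h1 h2
  obtain ⟨ν, hν⟩ := cj_eq_cj hij
  rw [Units.val_mul, Units.val_pow_eq_pow_val, Units.val_pow_eq_pow_val] at hν
  refine ⟨i, j, ν, ?_, hν⟩
  rintro rfl
  rw [zero_smul] at hν
  exact y.ne_zero hν

/-- no eigenvector -/
theorem Dat.eig [Module.Finite K V] [Nontrivial V] (D : Dat b ω d α P Z B) {A : Subgroup (Equiv.Perm (R K V))}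
    (hcomm : ∀ f ∈ A, ∀ g ∈ A, f * g = g * f) (hP : cj K V P ∈ A) (hZ : cj K V Z ∈ A) {y : (R K V)ˣ}
    (hy : cj K V y ∈ A) {l : K} (hl : (y : R K V) (wv α B) = l • wv α B) : Scal y := by
  obtain ⟨i, j, ν, hν, hyν⟩ := D.lift' hcomm hP hZ hy
  have h1 : (y : R K V) (wv α B) = ν • (B (0 + i) + (α * ω ^ j) • B (1 + i)) := by
    have e0 : Heis.ch 3 ω 0 = 1 := D.H.ch_zero
    have e1 : Heis.ch 3 ω 1 = ω := D.H.ch_one
    rw [hyν, LinearMap.smul_apply, wv, map_add, map_smul, PZ_apply D.hZ D.hP, PZ_apply D.hZ D.hP, e0, e1, one_pow,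
      one_smul, smul_smul]
  rw [h1] at hl
  have hαω : α * ω ^ j ≠ 0 := mul_ne_zero D.α0 (pow_ne_zero _ D.H.ω_ne)
  have hc : ∀ k, B.repr (ν • (B (0 + i) + (α * ω ^ j) • B (1 + i))) k = B.repr (l • wv α B) k := fun k => by rw [hl]
  simp only [map_smul, map_add, Basis.repr_self, Finsupp.smul_apply, Finsupp.add_apply, smul_eq_mul, wv] at hc
  have hi : (i : ZMod 3) = 0 ∨ (i : ZMod 3) = 1 ∨ (i : ZMod 3) = 2 := by
    generalize (i : ZMod 3) = x
    revert x
    decide
  have s01 : (0 : ZMod 3) ≠ 1 := by decide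
  have s02 : (0 : ZMod 3) ≠ 2 := by decide
  have s12 : (1 : ZMod 3) ≠ 2 := by decide
  rcases hi with hi | hi | hi
  · rw [hi, add_zero, add_zero] at hc
    have c0 := hc 0
    have c1 := hc 1
    rw [Finsupp.single_eq_same, Finsupp.single_eq_of_ne s01] at c0
    rw [Finsupp.single_eq_same, Finsupp.single_eq_of_ne s01.symm] at c1
    have h5 : ν = l := by linear_combination c0
    have h6 : ω ^ j = 1 := by
      have h7 : (ν * α) * (ω ^ j - 1) = 0 := by rw [← h5] at c1; linear_combination c1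
      exact sub_eq_zero.1 ((mul_eq_zero.1 h7).resolve_left (mul_ne_zero hν D.α0))
    refine ⟨ν, ?_⟩
    rw [hyν]
    congr 1
    refine B.ext fun m => ?_
    rw [PZ_apply D.hZ D.hP, hi, add_zero]
    have h8 : Heis.ch 3 ω m ^ j = 1 := by
      show (ω ^ m.val) ^ j = 1
      rw [← pow_mul, mul_comm, pow_mul, h6, one_pow]
    rw [h8, one_smul]
    rfl
  · exfalso
    rw [hi] at hc
    have c2 := hc 2
    rw [show (0 : ZMod 3) + 1 = 1 by decide, show (1 : ZMod 3) + 1 = 2 by decide, Finsupp.single_eq_same,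
      Finsupp.single_eq_of_ne s12.symm, Finsupp.single_eq_of_ne s02.symm] at c2
    have h5 : ν * (α * ω ^ j) = 0 := by linear_combination c2
    exact mul_ne_zero hν hαω h5
  · exfalso
    rw [hi] at hc
    have c2 := hc 2
    rw [show (0 : ZMod 3) + 2 = 2 by decide, show (1 : ZMod 3) + 2 = 0 by decide, Finsupp.single_eq_same,
      Finsupp.single_eq_of_ne s12.symm, Finsupp.single_eq_of_ne s02.symm] at c2
    have h5 : ν = 0 := by linear_combination c2
    exact hν h5

/-- the image of `Z` under an element centralizing `A` -/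
theorem fZ {f : Equiv.Perm (R K V)} (hf : f ∈ RP K V) {X : (R K V)ˣ} (h : f * cj K V X = cj K V X * f) :
    ∃ ζ : K, f (X : R K V) = ζ • (X : R K V) := by
  have h1 := Cfsg.Agent.H706.FC.f_cj hf X
  rw [h] at h1
  exact cj_eq_cj (mul_right_cancel h1).symm

theorem sig_ω [Nontrivial V] (D : Dat b ω d α P Z B) {f : Equiv.Perm (R K V)} (hf : f ∈ RP K V) {σ : K ≃+* K}
    (hσ : HasSig f σ) (hZ : f * cj K V Z = cj K V Z * f) (hP : f * cj K V P = cj K V P * f) : σ ω = ω := by
  obtain ⟨ζ, hζ⟩ := fZ hf hZ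
  obtain ⟨ξ, hξ⟩ := fZ hf hP
  have hζ0 : ζ ≠ 0 := by
    rintro rfl
    rw [zero_smul] at hζ
    exact (Cfsg.Agent.H706.FC.fu hf Z).ne_zero hζ
  have hξ0 : ξ ≠ 0 := by
    rintro rfl
    rw [zero_smul] at hξ
    exact (Cfsg.Agent.H706.FC.fu hf P).ne_zero hξ
  have h1 := congrArg f D.H.comm
  rw [hσ.smul hf, hf.2, hf.2, hζ, hξ, smul_mul_smul_comm, smul_mul_smul_comm, D.H.comm, smul_smul, smul_smul] at h1
  have h2 : ((P : R K V) * Z) ≠ 0 := (P * Z).ne_zero
  have h3 : (ζ * ξ * ω - σ ω * (ξ * ζ)) • ((P : R K V) * Z) = 0 := by rw [sub_smul, h1, sub_self]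
  have h4 := (smul_eq_zero.1 h3).resolve_right h2
  have h5 : (ζ * ξ) * (σ ω - ω) = 0 := by linear_combination -h4
  exact sub_eq_zero.1 ((mul_eq_zero.1 h5).resolve_left (mul_ne_zero hζ0 hξ0))

/-- **the main step** -/
theorem Dat.main [Finite K] [Module.Finite K V] [Nontrivial V] (D : Dat b ω d α P Z B) {f : Equiv.Perm (R K V)}
    (hf : f ∈ RP K V) (hZ : f * cj K V Z = cj K V Z * f) (hP : f * cj K V P = cj K V P * f) {c : K} (hc0 : c ≠ 0)
    (hc1 : c * d ≠ 1) (hc2 : c * d ≠ -1) {u : (R K V)ˣ}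
    (hu : (u : R K V) = (1 + tw b c (wv α B)) * (1 - f (tw b c (wv α B)))) {i j : ℕ} {ν : K} (hν : ν ≠ 0)
    (huZ : (u : R K V) * Z = (ν • ((P : R K V) ^ i * (Z : R K V) ^ j)) * u) :
    f (tw b c (wv α B)) = tw b c (wv α B) := by
  obtain ⟨σ, hσ⟩ := exists_sig hf
  obtain ⟨F, hadd, hsm, hF⟩ := hσ.semi hf
  have hσω : σ ω = ω := sig_ω D hf hσ hZ hP
  have hσα : σ α = α := D.αf σ hσω
  have hτω : b.τ ω ≠ ω := by
    rw [D.τω]
    intro h
    have h1 : ω * (ω - 1) = 0 := by linear_combination h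
    exact D.H.prim.ne_one (by norm_num) (sub_eq_zero.1 ((mul_eq_zero.1 h1).resolve_left D.H.ω_ne))
  have hsq : ∀ y : K, σ (σ y) = y → σ y = y := fun y hy => fix_of_sq D.ω2 hσω hτω b.invol hy
  have hστα : σ (b.τ α) = b.τ α := by
    have h1 := congrArg σ D.α1
    rw [map_mul, hσα, map_neg, map_one, ← D.α1] at h1
    exact mul_left_cancel₀ D.α0 h1
  obtain ⟨ζ, hζ⟩ := fZ hf hZ
  obtain ⟨ξ, hξ⟩ := fZ hf hP
  have hζ0 : ζ ≠ 0 := by
    rintro rfl
    rw [zero_smul] at hζ
    exact (Cfsg.Agent.H706.FC.fu hf Z).ne_zero hζ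
  have hξ3 : ξ ^ 3 = 1 := by
    have h1 : f ((P : R K V) ^ 3) = (f P) ^ 3 := by
      rw [pow_succ, pow_succ, pow_one, hf.2, hf.2, pow_succ, pow_succ, pow_one]
    rw [D.H.Pr', Cfsg.Agent.H706.FC.RP_map_one hf, hξ, smul_pow, D.H.Pr'] at h1
    have h2 : (1 - ξ ^ 3) • (1 : R K V) = 0 := by rw [sub_smul, one_smul, ← h1, sub_self]
    exact (sub_eq_zero.1 ((smul_eq_zero.1 h2).resolve_right one_ne_zero)).symm
  have hξ0 : ξ ≠ 0 := by
    rintro rfl
    rw [zero_pow (by norm_num)] at hξ3
    exact zero_ne_one hξ3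
  -- `F` on the basis
  have hF0 : F (B 0) ≠ 0 := by
    intro h
    have h0 : F 0 = 0 := by
      have := hadd 0 0
      rw [add_zero] at this
      simpa using this
    exact B.ne_zero 0 (F.injective (h.trans h0.symm))
  obtain ⟨m, t, -, ht, hm⟩ := D.H.eigvec D.hZ hF0 (c := ζ⁻¹) (by
    have h1 := hF Z (B 0)
    rw [hζ, D.hZ, D.H.ch_zero, one_smul, LinearMap.smul_apply] at h1
    rw [← h1, smul_smul, inv_mul_cancel₀ hζ0, one_smul, h1])
  have hstep : ∀ k, F (B (k + 1)) = ξ • (P : R K V) (F (B k)) := by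
    intro k
    rw [← D.hP, ← hF, hξ, LinearMap.smul_apply]
  have hm1 : F (B 1) = (ξ * t) • B (m + 1) := by
    have h1 := hstep 0
    rw [zero_add, hm, map_smul, D.hP, smul_smul] at h1
    exact h1
  have hm2 : F (B 2) = (ξ * (ξ * t)) • B (m + 2) := by
    have h1 := hstep 1
    rw [show (1 : ZMod 3) + 1 = 2 by decide, hm1, map_smul, D.hP, smul_smul, add_assoc,
      show (1 : ZMod 3) + 1 = 2 by decide] at h1
    exact h1
  -- `N`
  set w := wv α B with hw
  set N := tw b c w with hN
  set y := c * d with hy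
  have hy0 : y ≠ 0 := mul_ne_zero hc0 D.d0
  have hN0 : N (B 0) = y • w := by
    rw [hN, tw_apply, D.B0w]
  have hN1 : N (B 1) = (y * b.τ α) • w := by
    rw [hN, tw_apply, D.B1w]
    congr 1
    rw [hy]
    ring
  have hN2 : N (B 2) = 0 := by
    rw [hN, tw_apply, D.B2w, mul_zero, zero_smul]
  have hFw : F w = t • (B m + (α * ξ) • B (m + 1)) := by
    rw [hw, wv, hadd, hsm, hm, hm1, hσα, smul_add, smul_smul, smul_smul]
    congr 2
    ring
  set W' := B m + (α * ξ) • B (m + 1) with hW'
  have hσy0 : σ y ≠ 0 := by simpa using hy0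
  have hM0 : f N (B m) = σ y • W' := by
    have h1 := hF N (B 0)
    rw [hN0, hsm, hFw, hm, map_smul, smul_comm] at h1
    exact smul_right_injective V ht h1
  have hM1 : f N (B (m + 1)) = (ξ ^ 2 * σ y * b.τ α) • W' := by
    have h1 := hF N (B 1)
    rw [hN1, hsm, hFw, hm1, map_smul, map_mul, hστα, smul_smul] at h1
    have h2 : ξ * t ≠ 0 := mul_ne_zero hξ0 ht
    refine smul_right_injective V h2 ?_
    show (ξ * t) • f N (B (m + 1)) = (ξ * t) • _
    rw [h1, smul_smul]
    congr 1
    linear_combination (-(t * σ y * b.τ α)) * hξ3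
  have hM2 : f N (B (m + 2)) = 0 := by
    have h1 := hF N (B 2)
    rw [hN2, hm2, map_smul] at h1
    have h0 : F 0 = 0 := by
      have := hadd 0 0
      rw [add_zero] at this
      simpa using this
    rw [h0] at h1
    exact (smul_eq_zero.1 h1).resolve_left (mul_ne_zero hξ0 (mul_ne_zero hξ0 ht))
  have huv : ∀ v, (u : R K V) v = (v - f N v) + N (v - f N v) := by
    intro v
    rw [hu]
    rfl
  have s01 : (0 : ZMod 3) ≠ 1 := by decide
  have s02 : (0 : ZMod 3) ≠ 2 := by decide
  have s12 : (1 : ZMod 3) ≠ 2 := by decide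
  have hdic := dicho D.H D.hZ D.hP hν huZ
  have hw' : w = B 0 + α • B 1 := rfl
  have hmc : ∀ m : ZMod 3, m = 0 ∨ m = 1 ∨ m = 2 := by decide
  rcases hmc m with rfl | rfl | rfl
  · -- `m = 0`
    rw [zero_add] at hM1 hM2
    rw [zero_add] at hW'
    -- `u` on the basis
    have hu2 : (u : R K V) (B 2) = B 2 := by
      rw [huv, hM2, sub_zero, hN2, add_zero]
    have hu0 : (u : R K V) (B 0) = (1 - σ y + (1 - σ y) * y + σ y * y * ξ) • B 0 +
        (α * (-(σ y * ξ) + (1 - σ y) * y + σ y * y * ξ)) • B 1 := by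
      have e : B 0 - f N (B 0) = (1 - σ y) • B 0 + (-(σ y * α * ξ)) • B 1 := by
        rw [hM0, hW']
        module
      rw [huv, e, map_add, map_smul, map_smul, hN0, hN1, hw']
      have hα1 := D.α1
      have e2 : (-(σ y * α * ξ)) * (y * b.τ α) = σ y * y * ξ := by
        linear_combination (-(σ y * ξ * y)) * hα1
      rw [smul_smul, smul_smul, e2]
      module
    have hu1 : (u : R K V) (B 1) = (b.τ α * (-(ξ ^ 2 * σ y) + y * (-(ξ ^ 2 * σ y) + 1 + σ y))) • B 0 +
        (1 + σ y - y * (-(ξ ^ 2 * σ y) + 1 + σ y)) • B 1 := by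
      have hα1 := D.α1
      have e : B 1 - f N (B 1) = (-(ξ ^ 2 * σ y * b.τ α)) • B 0 + (1 + σ y) • B 1 := by
        rw [hM1, hW']
        have e3 : (ξ ^ 2 * σ y * b.τ α) * (α * ξ) = - σ y := by
          linear_combination (ξ ^ 3 * σ y) * hα1 - σ y * hξ3
        rw [smul_add, smul_smul, e3]
        module
      rw [huv, e, map_add, map_smul, map_smul, hN0, hN1, hw']
      have e2 : (-(ξ ^ 2 * σ y * b.τ α)) * y + (1 + σ y) * (y * b.τ α) =
          b.τ α * (y * (-(ξ ^ 2 * σ y) + 1 + σ y)) := by ring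
      rw [smul_smul, smul_smul, ← add_smul, e2]
      have e4 : (b.τ α * (y * (-(ξ ^ 2 * σ y) + 1 + σ y))) * α = - (y * (-(ξ ^ 2 * σ y) + 1 + σ y)) := by
        linear_combination (y * (-(ξ ^ 2 * σ y) + 1 + σ y)) * hα1
      rw [smul_add, smul_smul, e4]
      module
    set M00 := 1 - σ y + (1 - σ y) * y + σ y * y * ξ with hM00
    set m10 := -(σ y * ξ) + (1 - σ y) * y + σ y * y * ξ with hm10
    set m01 := -(ξ ^ 2 * σ y) + y * (-(ξ ^ 2 * σ y) + 1 + σ y) with hm01
    set M11 := 1 + σ y - y * (-(ξ ^ 2 * σ y) + 1 + σ y) with hM11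
    have hdet : M00 * M11 + m10 * m01 = 1 := by
      rw [hM00, hM11, hm10, hm01]
      linear_combination (σ y ^ 2) * hξ3
    have hmono : ∀ m k l, B.repr ((u : R K V) (B m)) k ≠ 0 → B.repr ((u : R K V) (B m)) l ≠ 0 → k = l := by
      rcases hdic with h | h
      · exfalso
        apply h 2 0
        rw [hu2, Basis.repr_self, Finsupp.single_eq_of_ne s02]
      · exact h
    have hA0 : M00 = 0 ∨ m10 = 0 := by
      by_contra hcon
      rw [not_or] at hcon
      refine s01 (hmono 0 0 1 ?_ ?_)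
      · rw [hu0, map_add, map_smul, map_smul, Basis.repr_self, Basis.repr_self, Finsupp.add_apply, Finsupp.smul_apply,
          Finsupp.smul_apply, Finsupp.single_eq_same, Finsupp.single_eq_of_ne s01, smul_zero, add_zero, smul_eq_mul,
          mul_one]
        exact hcon.1
      · rw [hu0, map_add, map_smul, map_smul, Basis.repr_self, Basis.repr_self, Finsupp.add_apply, Finsupp.smul_apply,
          Finsupp.smul_apply, Finsupp.single_eq_same, Finsupp.single_eq_of_ne s01.symm, smul_zero, zero_add,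
          smul_eq_mul, mul_one]
        exact mul_ne_zero D.α0 hcon.2
    have hA1 : M11 = 0 ∨ m01 = 0 := by
      by_contra hcon
      rw [not_or] at hcon
      refine s01 (hmono 1 0 1 ?_ ?_)
      · rw [hu1, map_add, map_smul, map_smul, Basis.repr_self, Basis.repr_self, Finsupp.add_apply, Finsupp.smul_apply,
          Finsupp.smul_apply, Finsupp.single_eq_same, Finsupp.single_eq_of_ne s01, smul_zero, add_zero, smul_eq_mul,
          mul_one]
        exact mul_ne_zero D.tα0 hcon.2
      · rw [hu1, map_add, map_smul, map_smul, Basis.repr_self, Basis.repr_self, Finsupp.add_apply, Finsupp.smul_apply,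
          Finsupp.smul_apply, Finsupp.single_eq_same, Finsupp.single_eq_of_ne s01.symm, smul_zero, zero_add,
          smul_eq_mul, mul_one]
        exact hcon.1
    -- the conclusion from `σ y = y`, `ξ = 1`
    have hfin : σ y = y → ξ = 1 → f N = N := by
      intro h1 h2
      refine B.ext fun k => ?_
      have hk : k = 0 ∨ k = 1 ∨ k = 2 := by
        revert k
        decide
      rcases hk with rfl | rfl | rfl
      · rw [hM0, hN0, h1, hW', h2, mul_one, hw']
      · rw [hM1, hN1, h1, hW', h2, mul_one, hw', one_pow, one_mul]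
      · rw [hM2, hN2]
    by_cases h00 : M00 = 0
    · -- antidiagonal
      exfalso
      have h11 : M11 = 0 := by
        rcases hA1 with h | h
        · exact h
        · rw [h00, h] at hdet
          simp at hdet
      rw [hM00] at h00
      rw [hM11] at h11
      by_cases hξ1 : ξ = 1
      · rw [hξ1] at h00 h11
        have h2 : (2 : K) = 0 := by linear_combination h00 + h11
        have h4 : σ y = 1 + y := by linear_combination -h00
        have h5 := hsq y (by rw [h4, map_add, map_one, h4]; linear_combination h2)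
        rw [h4] at h5
        have h6 : (1 : K) = 0 := by linear_combination h5
        exact one_ne_zero h6
      · have hξ2 : ξ ^ 2 + ξ + 1 = 0 := by
          have h4 : (ξ - 1) * (ξ ^ 2 + ξ + 1) = 0 := by linear_combination hξ3
          exact (mul_eq_zero.1 h4).resolve_left (sub_ne_zero.2 hξ1)
        have h4 : 3 * (y * σ y) = 2 := by linear_combination -h00 - h11 + (y * σ y) * hξ2
        have h5 : σ (σ y) = y := by
          have h6 := congrArg σ h4
          rw [map_mul, map_mul, map_ofNat, map_ofNat, ← h4] at h6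
          have h7 := mul_left_cancel₀ D.h3 h6
          have h8 : σ y * (σ (σ y) - y) = 0 := by linear_combination h7
          exact sub_eq_zero.1 ((mul_eq_zero.1 h8).resolve_left hσy0)
        have h6 := hsq y h5
        rw [h6] at h00 h11
        have h7 : (y * y) * (ξ * (1 - ξ)) = 0 := by linear_combination h00 - h11
        rcases mul_eq_zero.1 h7 with h8 | h8
        · exact hy0 (mul_self_eq_zero.1 h8)
        · rcases mul_eq_zero.1 h8 with h9 | h9
          · exact hξ0 h9
          · exact hξ1 (sub_eq_zero.1 h9).symm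
    · -- diagonal
      have h10 : m10 = 0 := hA0.resolve_left h00
      have h01 : m01 = 0 := by
        rcases hA1 with h | h
        · rw [h, h10] at hdet
          simp at hdet
        · exact h
      rw [hm10] at h10
      rw [hm01] at h01
      have h4 : (1 - ξ) * (y + σ y) = 0 := by
        linear_combination h10 - ξ * h01 - (σ y + y * σ y) * hξ3
      rcases mul_eq_zero.1 h4 with h5 | h5
      · have hξ1 : ξ = 1 := (sub_eq_zero.1 h5).symm
        refine hfin ?_ hξ1
        rw [hξ1] at h10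
        linear_combination -h10
      · have h6 : σ y = -y := by linear_combination h5
        have h7 := hsq y (by rw [h6, map_neg, h6, neg_neg])
        rw [h7] at h10
        have h8 : (1 - ξ) * (y * (1 - y)) = 0 := by linear_combination h10
        rcases mul_eq_zero.1 h8 with h9 | h9
        · exact hfin h7 (sub_eq_zero.1 h9).symm
        · rcases mul_eq_zero.1 h9 with h9 | h9
          · exact absurd h9 hy0
          · exact absurd (sub_eq_zero.1 h9).symm hc1
  · -- `m = 1`
    exfalso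
    rw [show (1 : ZMod 3) + 2 = 0 by decide] at hM2
    have hu0 : (u : R K V) (B 0) = (1 + y) • B 0 + (y * α) • B 1 := by
      rw [huv, hM2, sub_zero, hN0, hw']
      module
    rcases hdic with h | h
    · apply h 0 2
      rw [hu0, map_add, map_smul, map_smul, Basis.repr_self, Basis.repr_self, Finsupp.add_apply, Finsupp.smul_apply,
        Finsupp.smul_apply, Finsupp.single_eq_of_ne s02.symm, Finsupp.single_eq_of_ne s12.symm, smul_zero, smul_zero,
        add_zero]
    · refine s01 (h 0 0 1 ?_ ?_)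
      · rw [hu0, map_add, map_smul, map_smul, Basis.repr_self, Basis.repr_self, Finsupp.add_apply, Finsupp.smul_apply,
          Finsupp.smul_apply, Finsupp.single_eq_same, Finsupp.single_eq_of_ne s01, smul_zero, add_zero, smul_eq_mul,
          mul_one]
        intro h0
        exact hc2 (by linear_combination h0)
      · rw [hu0, map_add, map_smul, map_smul, Basis.repr_self, Basis.repr_self, Finsupp.add_apply, Finsupp.smul_apply,
          Finsupp.smul_apply, Finsupp.single_eq_same, Finsupp.single_eq_of_ne s01.symm, smul_zero, zero_add,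
          smul_eq_mul, mul_one]
        exact mul_ne_zero hy0 D.α0
  · -- `m = 2`
    exfalso
    rw [show (2 : ZMod 3) + 2 = 1 by decide] at hM2
    have hu1 : (u : R K V) (B 1) = (y * b.τ α) • B 0 + (1 - y) • B 1 := by
      have hα1 := D.α1
      rw [huv, hM2, sub_zero, hN1, hw', smul_add, smul_smul]
      have e : y * b.τ α * α = - y := by linear_combination y * hα1
      rw [e]
      module
    rcases hdic with h | h
    · apply h 1 2
      rw [hu1, map_add, map_smul, map_smul, Basis.repr_self, Basis.repr_self, Finsupp.add_apply, Finsupp.smul_apply,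
        Finsupp.smul_apply, Finsupp.single_eq_of_ne s02.symm, Finsupp.single_eq_of_ne s12.symm, smul_zero, smul_zero,
        add_zero]
    · refine s01 (h 1 0 1 ?_ ?_)
      · rw [hu1, map_add, map_smul, map_smul, Basis.repr_self, Basis.repr_self, Finsupp.add_apply, Finsupp.smul_apply,
          Finsupp.smul_apply, Finsupp.single_eq_same, Finsupp.single_eq_of_ne s01, smul_zero, add_zero, smul_eq_mul,
          mul_one]
        exact mul_ne_zero hy0 D.tα0
      · rw [hu1, map_add, map_smul, map_smul, Basis.repr_self, Basis.repr_self, Finsupp.add_apply, Finsupp.smul_apply,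
          Finsupp.smul_apply, Finsupp.single_eq_same, Finsupp.single_eq_of_ne s01.symm, smul_zero, zero_add,
          smul_eq_mul, mul_one]
        intro h0
        exact hc1 (by linear_combination -h0)

end Cfsg.Agent.H10.U3
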